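import Cfsg.Agent.Lib.Fusion.McLaughlin.Data
import Cfsg.Agent.Lib.Fusion.FixInvariant

/-! Kernel checks of the fusion certificate for McL on 275 points. -/

set_option autoImplicit false
set_option maxRecDepth 100000
set_option maxHeartbeats 0

namespace Cfsg.Agent.Lib.Fusion.McLaughlin

open Cfsg.Agent.Lib.Compute

theorem sylow_ok :
    Cfsg.Agent.Lib.Fusion.sylowCheck 12 275 Compute.Leech.mcLChain fusCert = true := by
  decide +kernel

theorem fusion_ok :
    Cfsg.Agent.Lib.Fusion.fusionCheck 12 275 Compute.Leech.mcLChain fusCert = true := by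
  decide +kernel

theorem coset_ok : Cfsg.Agent.Lib.Fusion.FixInvariant.fixCosetCheck 12 275 fusCert = true := by
  decide +kernel

theorem fus_ok : Cfsg.Agent.Lib.Fusion.FixInvariant.fixFusCheck 12 275 Compute.Leech.mcLChain fusCert = true := by
  simp only [Cfsg.Agent.Lib.Fusion.FixInvariant.fixFusCheck, sylow_ok, fusion_ok, coset_ok, Bool.and_self]

end Cfsg.Agent.Lib.Fusion.McLaughlin
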