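import Cfsg.Agent.Lib.Fusion.GroupTransport
import Cfsg.Agent.Lib.Fusion.McLaughlin.Check
import Cfsg.Agent.Lib.Compute.Leech.Outer

/-!
The 2-fusion system of the McLaughlin group is simple: certificate on 275 lattice vectors.
-/

set_option autoImplicit false

namespace Cfsg.Agent.Lib.Fusion.McLaughlin

open Cfsg Cfsg.Agent.Lib.Compute Cfsg.Agent.Lib.Compute.Leech

theorem mcLGens_lit : (mcLGens.all fun p => permCheck 12 275 p.1 p.2 &&
    Nat.beq (packP 12 (getP 12 p.1) 275) p.1 && Nat.beq (packP 12 (getP 12 p.2) 275) p.2) = true := by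
  decide +kernel

theorem hb : 275 ≤ 2 ^ 12 := by norm_num

theorem mcLGens_ok : GensOK (permCoding 12 (Equiv.refl (Fin 275)) hb) mcLGens :=
  gensOK_literal _ hb mcLGens_lit

theorem exists_equiv :
    Nonempty (Spor.McL ≃* genGroup (permCoding 12 (Equiv.refl (Fin 275)) hb) mcLGens) := by
  haveI : Finite ↥(MulAction.stabilizer Co0 Spor.leechV ⊓ MulAction.stabilizer Co0 Spor.leechU) := by
    haveI := Lib.Leech.finite_co0
    infer_instance
  obtain ⟨e⟩ := mulEquiv_of_vectors hb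
    (MulAction.stabilizer Co0 Spor.leechV ⊓ MulAction.stabilizer Co0 Spor.leechU)
    mcLPts mcLPts_length mcLFixed mcLWords mcLGens
    (fun g hg => ⟨hg _ (List.mem_cons_self ..) _ vecOf_mcL.1.symm,
      hg _ (List.mem_cons_of_mem _ (List.mem_cons_self ..)) _ vecOf_mcL.2.symm⟩)
    mcLGens_ok mcLPts_ok mcLKeys_ok mcLWords_ok (by decide +kernel) mcLActs_ok (by
      rw [← Nat.card_congr Lib.Leech.mclEquiv.toEquiv, Lib.Leech.card_McL,
        card_genGroup _ mcLGens_ok mcLChain_ok, mcLChain_size])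
  exact ⟨Lib.Leech.mclEquiv.trans e⟩

theorem isSimple_of_iso {G : Type*} [Group G] [Finite G] (hG : Spor.IsoMcL G) (S : Sylow 2 G) :
    (groupFusionSystem (S : Subgroup G)).IsSimple 2 := by
  haveI : Fact (Nat.Prime 2) := ⟨Nat.prime_two⟩
  obtain ⟨e⟩ := exists_equiv
  obtain ⟨f⟩ := hG
  exact GroupTransport.isSimple_of_mulEquiv (f.trans e).symm
    (fun S' => Lib.Fusion.FixInvariant.isSimple_of_fixFusCheck (Equiv.refl (Fin 275)) hb mcLGens_ok mcLChain_ok
      fus_ok _ rfl S') S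

end Cfsg.Agent.Lib.Fusion.McLaughlin
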